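import Groth.Agent.FormalPunctLib.PrincipalColim
import Groth.Agent.FormalPunctLib.Sat
import Groth.Agent.FormalPunctLib.Extend
import Mathlib.RingTheory.Filtration

/-!
# Algebraizing formal sections near `V(I)`, as a property of the module
-/

set_option autoImplicit false
set_option linter.style.haveILetI false
set_option linter.unusedSectionVars false
universe u

noncomputable section

open CategoryTheory AlgebraicGeometry TopologicalSpace Opposite
open CommAlgDim PunctSections FormalPunctLib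

namespace FormalSesLib

variable {A : Type u} [CommRing A] [IsNoetherianRing A] (I 𝔞 : Ideal A)

/-- `J` cuts out an admissible open. -/
structure Adm (J : Ideal A) : Prop where
  le : J ≤ 𝔞
  prime : ∀ q : PrimeSpectrum A, J ≤ q.asIdeal → I ≤ q.asIdeal → 𝔞 ≤ q.asIdeal

variable {I 𝔞}

theorem Adm.mul {J J' : Ideal A} (h : Adm I 𝔞 J) (h' : Adm I 𝔞 J') : Adm I 𝔞 (J * J') :=
  ⟨Ideal.mul_le_left.trans h.le, fun q hq hI => (q.isPrime.mul_le.1 hq).elim (fun k => h.prime q k hI)
    (fun k => h'.prime q k hI)⟩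

theorem Adm.pow {J : Ideal A} (h : Adm I 𝔞 J) (k : ℕ) : Adm I 𝔞 (J ^ (k + 1)) :=
  ⟨(Ideal.pow_le_self (Nat.succ_ne_zero k)).trans h.le,
    fun q hq hI => h.prime q (q.isPrime.le_of_pow_le hq) hI⟩

variable (I 𝔞) in
theorem adm_self : Adm I 𝔞 𝔞 := ⟨le_rfl, fun _ h _ => h⟩

theorem Adm.admissible {J : Ideal A} (h : Adm I 𝔞 J) :
    Formal2.Admissible A I (LocCoh.puncturedOpen A 𝔞) (LocCoh.puncturedOpen A J) :=
  ⟨punct_le_punct h.le, fun p hp hI hJ => hp (h.prime p hJ hI)⟩

theorem pres_pres {K J J' : Ideal A} (h : J ≤ K) (h' : J' ≤ J) (N : ModuleCat.{u} A) (s : PSec K N) :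
    pres h' N (pres h N s) = pres (h'.trans h) N s :=
  res_res (R := CommRingCat.of A) (M := N) (compl_le h) (compl_le h') s

variable {M : Type u} [AddCommGroup M] [Module A M]

theorem secEquiv_res {J J' : Ideal A} (h : J' ≤ J) (x : Formal2.HV A M 0 (LocCoh.puncturedOpen A J)) :
    secEquiv J' (ModuleCat.of A M) (Formal2.HVres A M 0 (punct_le_punct h) x) =
      pres h (ModuleCat.of A M) (secEquiv J (ModuleCat.of A M) x) :=
  QCohLib.h0_res (F := (shF A).obj (ModuleCat.of A M)) (homOfLE (punct_le_punct h)) x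

theorem secEquiv_map {N : Type u} [AddCommGroup N] [Module A N] (J : Ideal A) (φ : M →ₗ[A] N)
    (x : Formal2.HV A M 0 (LocCoh.puncturedOpen A J)) :
    secEquiv J (ModuleCat.of A N) (Formal2.HVmap A φ 0 (LocCoh.puncturedOpen A J) x) =
      pmap J (ModuleCat.ofHom φ) (secEquiv J (ModuleCat.of A M) x) :=
  secEquiv_natural J (ModuleCat.ofHom φ) x

variable [Module.Finite A M]

variable (I 𝔞 M) in
/-- Formal sections come from sections near `V(I)`. -/
def Surj : Prop :=
  ∀ y : FSec 𝔞 I M, ∃ (J : Ideal A) (h : Adm I 𝔞 J) (z : PSec J (ModuleCat.of A M)),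
    ∀ n, pmap J (qπ I M n) z = pres h.le (qn I M n) (y.1 n)

theorem surj_of_colim (hI : I ≤ 𝔞)
    (hb : Formal2.FormalCohColimBijective A I M 0 (LocCoh.puncturedOpen A 𝔞)) : Surj I 𝔞 M := by
  intro y
  obtain ⟨V, hV, x, hx⟩ := hb.2 (fun n => (secEquiv 𝔞 (qn I M n)).symm (y.1 n)) fun n => by
    refine (secEquiv 𝔞 (qn I M n)).injective ?_
    refine (secEquiv_map 𝔞 (Formal2.quotPowTrans A I M n) _).trans ?_
    refine (congrArg (pmap 𝔞 (qt I M n)) ((secEquiv 𝔞 (qn I M (n + 1))).apply_symm_apply _)).trans ?_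
    exact (mem_FSec y.2 n).trans ((secEquiv 𝔞 (qn I M n)).apply_symm_apply _).symm
  obtain ⟨J, hJ, hJI, hJV, hJa⟩ := exists_admissible_punct hI le_rfl (fun q h _ => h) V hV
  refine ⟨J, ⟨hJ, hJI⟩, secEquiv J (ModuleCat.of A M) (Formal2.HVres A M 0 hJV x), fun n => ?_⟩
  refine (secEquiv_map J (Formal2.quotPowπ A I M n) _).symm.trans ?_
  refine (congrArg (secEquiv J (qn I M n)) ((HVres_HVmap (Formal2.quotPowπ A I M n) 0 hJV x).symm.trans
    ((congrArg (Formal2.HVres A _ 0 hJV) (hx n).symm).trans (HVres_res 0 hV.1 hJV _)))).trans ?_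
  refine (secEquiv_res hJ _).trans ?_
  exact congrArg (pres hJ (qn I M n)) ((secEquiv 𝔞 (qn I M n)).apply_symm_apply _)

theorem colim_of_surj (hI : I ≤ 𝔞) (h : Surj I 𝔞 M) :
    Formal2.FormalCohColimBijective A I M 0 (LocCoh.puncturedOpen A 𝔞) := by
  refine ⟨fun V hV x hx => colim_injective I M hI V hV x hx, fun y hy => ?_⟩
  obtain ⟨J, hJ, z, hz⟩ := h ⟨fun n => secEquiv 𝔞 (qn I M n) (y n), fun n => by
    refine (secEquiv_map 𝔞 (Formal2.quotPowTrans A I M n) _).symm.trans ?_
    exact congrArg (secEquiv 𝔞 (qn I M n)) (hy n)⟩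
  refine ⟨_, hJ.admissible, (secEquiv J (ModuleCat.of A M)).symm z, fun n => ?_⟩
  refine (secEquiv J (qn I M n)).injective ?_
  refine (secEquiv_res hJ.le _).trans ?_
  refine (hz n).symm.trans ?_
  refine Eq.trans ?_ (secEquiv_map J (Formal2.quotPowπ A I M n) _).symm
  exact (congrArg (pmap J (qπ I M n)) ((secEquiv J (ModuleCat.of A M)).apply_symm_apply z)).symm

/-- Sections of the quotients are determined on admissible opens. -/
theorem pres_qn_injective {J : Ideal A} (h : Adm I 𝔞 J) (n : ℕ) (s : PSec 𝔞 (qn I M n))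
    (hs : pres h.le (qn I M n) s = 0) : s = 0 := by
  let K : Ideal A := LinearMap.ker (LinearMap.toSpanSingleton A (PSec 𝔞 (qn I M n)) s)
  have hK : 𝔞 ≤ K.radical := by
    rw [Ideal.radical_eq_sInf]
    refine le_sInf ?_
    rintro P ⟨hKP, hP⟩
    refine h.prime ⟨P, hP⟩ (fun f hf => ?_) fun a ha => ?_
    · obtain ⟨k, m, hm⟩ := exists_pow_smul_eq_pto 𝔞 (qn I M n) (h.le hf) s
      have h1 : pto J (qn I M n) m = 0 := by
        rw [← pres_pto h.le, ← hm, map_smul, hs, smul_zero]
      obtain ⟨j, hj⟩ := (pto_eq_zero_iff J _ m).1 h1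
      refine hP.mem_of_pow_mem (j + k) (hKP ?_)
      show f ^ (j + k) • s = 0
      rw [pow_add, mul_smul, hm, ← map_smul, hj _ (Ideal.pow_mem_pow hf j), map_zero]
    · exact hP.mem_of_pow_mem (n + 1) (hKP (psec_smul_eq_zero (Ideal.pow_mem_pow ha (n + 1)) s))
  refine eq_zero_of_pow_smul 𝔞 s fun f hf => ?_
  obtain ⟨k, hk⟩ := hK hf
  exact ⟨k, hk⟩

/-- Sections with zero formal images die near `V(I)`. -/
theorem exists_pres_eq_zero {J : Ideal A} (h : Adm I 𝔞 J) (z : PSec J (ModuleCat.of A M))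
    (hz : ∀ n, pmap J (qπ I M n) z = 0) :
    ∃ (J' : Ideal A) (_ : Adm I 𝔞 J') (h' : J' ≤ J), pres h' (ModuleCat.of A M) z = 0 := by
  let K : Ideal A := LinearMap.ker (LinearMap.toSpanSingleton A (PSec J (ModuleCat.of A M)) z)
  refine ⟨J * K, ⟨Ideal.mul_le_left.trans h.le, fun q hq hIq => ?_⟩, Ideal.mul_le_left, ?_⟩
  · rcases q.isPrime.mul_le.1 hq with h' | h'
    · exact h.prime q h' hIq
    · by_contra ha
      obtain ⟨g, hg, hgz⟩ := FormalPunctLib.exists_smul_eq_zero I M q hIq (fun h'' => ha (h.prime q h'' hIq)) z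
        fun n => ⟨1, fun h1 => q.isPrime.ne_top ((Ideal.eq_top_iff_one _).2 h1), by rw [hz n, smul_zero]⟩
      exact hg (h' (show g ∈ K from hgz))
  · refine eq_zero_of_pow_smul _ _ fun g hg => ⟨1, ?_⟩
    rw [pow_one, ← map_smul]
    have : g • z = 0 := (show J * K ≤ K from Ideal.mul_le_right) hg
    rw [this, map_zero]

/-- Sections agreeing with the formal ones on the generators glue. -/
theorem exists_glue {J : Ideal A} {r : ℕ} (c : Fin r → A) (hJ : J ≤ Ideal.span (Set.range c))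
    (N : ModuleCat.{u} A) (w : Fin r → PSec J N) (hw : ∀ i j, c i • w j = c j • w i) :
    ∃ z : PSec J N, ∀ j, c j • z = w j := by
  let C : Ideal A := Ideal.span (Set.range c)
  let P : (Fin r → A) →ₗ[A] C := Fintype.linearCombination A fun j => ⟨c j, Ideal.subset_span ⟨j, rfl⟩⟩
  let L : (Fin r → A) →ₗ[A] LocCoh.DT J N := θ J N ∘ₗ Fintype.linearCombination A w
  have hPs : Function.Surjective P := fun ⟨x, hx⟩ => by
    obtain ⟨a, rfl⟩ := Ideal.mem_span_range_iff_exists_fun.1 hx
    exact ⟨a, Subtype.ext (by simp [P, Fintype.linearCombination_apply])⟩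
  have hker : LinearMap.ker P ≤ LinearMap.ker L := fun a ha => by
    have h0 : ∑ j, a j * c j = 0 := by
      have := congrArg Subtype.val (LinearMap.mem_ker.1 ha)
      simpa [P, Fintype.linearCombination_apply] using this
    suffices hs : ∑ j, a j • w j = 0 by
      rw [LinearMap.mem_ker]
      show θ J N (Fintype.linearCombination A w a) = 0
      rw [Fintype.linearCombination_apply, hs, map_zero]
    have h1 : ∀ i, c i • (∑ j, a j • w j) = 0 := fun i => by
      rw [Finset.smul_sum]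
      refine Eq.trans (Finset.sum_congr rfl fun j _ => ?_) ((Finset.sum_smul (x := w i)).symm.trans
        ((congrArg (· • w i) h0).trans (zero_smul A (w i))))
      rw [smul_comm, hw i j, smul_smul]
    refine eq_zero_of_pow_smul J _ fun f hf => ⟨1, ?_⟩
    obtain ⟨b, hb⟩ := Ideal.mem_span_range_iff_exists_fun.1 (hJ hf)
    rw [pow_one, ← hb, Finset.sum_smul]
    exact Finset.sum_eq_zero fun i _ => by rw [mul_smul, h1, smul_zero]
  let ψ : C →ₗ[A] LocCoh.DT J N := (Submodule.liftQ _ L hker) ∘ₗ (P.quotKerEquivOfSurjective hPs).symm.toLinearMap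
  have hψ : ∀ j, ψ ⟨c j, Ideal.subset_span ⟨j, rfl⟩⟩ = θ J N (w j) := fun j => by
    classical
    have e : (P.quotKerEquivOfSurjective hPs).symm ⟨c j, Ideal.subset_span ⟨j, rfl⟩⟩ =
        Submodule.Quotient.mk (Pi.single j 1) := by
      refine (LinearEquiv.symm_apply_eq _).2 ?_
      rw [LinearMap.quotKerEquivOfSurjective_apply_mk]
      simp [P]
    show Submodule.liftQ _ L hker ((P.quotKerEquivOfSurjective hPs).symm _) = _
    rw [e]
    show θ J N (Fintype.linearCombination A w (Pi.single j 1)) = _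
    simp
  obtain ⟨ψ', hψ', -⟩ := IdealTransLib.existsUnique_factor (I := J) (e := C.subtype)
    (by rw [Submodule.ker_subtype]; exact bot_le) (by
      intro x
      obtain ⟨x, rfl⟩ := Submodule.Quotient.mk_surjective _ x
      refine ⟨1, fun a ha => ?_⟩
      rw [← Submodule.Quotient.mk_smul, Submodule.Quotient.mk_eq_zero, Submodule.range_subtype, smul_eq_mul]
      exact C.mul_mem_right x (hJ (by simpa using ha))) ψ
  obtain ⟨u, hu⟩ := IdealTransLib.bijective_toDT_DT.2 (ψ' (1 : A))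
  obtain ⟨z, rfl⟩ := θ_surjective J N u
  refine ⟨z, fun j => θ_injective J N (IdealTransLib.bijective_toDT_DT.1 ?_)⟩
  rw [map_smul, map_smul, hu, ← map_smul, smul_eq_mul, mul_one, ← hψ j]
  exact LinearMap.congr_fun hψ' ⟨c j, Ideal.subset_span ⟨j, rfl⟩⟩

end FormalSesLib

end
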