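import Groth.Agent.FormalSesLib.Basic

/-!
# Algebraizing formal sections in short exact sequences
-/

set_option autoImplicit false
set_option linter.style.haveILetI false
set_option linter.unusedSectionVars false
universe u

noncomputable section

open CategoryTheory AlgebraicGeometry TopologicalSpace Opposite
open CommAlgDim PunctSections FormalPunctLib

namespace FormalSesLib

variable {A : Type u} [CommRing A] [IsNoetherianRing A] {I 𝔞 : Ideal A}
variable {M M' M'' : Type u} [AddCommGroup M] [Module A M] [AddCommGroup M'] [Module A M']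
  [AddCommGroup M''] [Module A M''] [Module.Finite A M] [Module.Finite A M'] [Module.Finite A M'']

theorem fsec_qT (y : FSec 𝔞 I M) {n m : ℕ} (h : n ≤ m) : pmap 𝔞 (qT I M h) (y.1 m) = y.1 n := by
  induction h with
  | refl =>
    rw [qT_self]
    exact pmap_id _
  | @step m hm ih => rw [← qT_qt I M hm, pmap_comp, mem_FSec y.2 m, ih]

theorem pmap_zero {N N' : ModuleCat.{u} A} (s : PSec 𝔞 N) : pmap 𝔞 (0 : N ⟶ N') s = 0 := by
  refine eq_zero_of_pow_smul 𝔞 _ fun a ha => ?_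
  obtain ⟨k, m, hm⟩ := exists_pow_smul_eq_pto 𝔞 N ha s
  exact ⟨k, by rw [← map_smul, hm, pmap_pto, ModuleCat.hom_zero, LinearMap.zero_apply, map_zero]⟩

variable (I) (f : M' →ₗ[A] M) (g : M →ₗ[A] M'')

/-- The part of `M / I^(n+1) M` coming from `M'`. -/
abbrev sub (n : ℕ) : ModuleCat.{u} A :=
  ModuleCat.of A (M' ⧸ (I ^ (n + 1) • ⊤ : Submodule A M).comap f)

/-- `M'_n → sub n`. -/
def toSub (n : ℕ) : qn I M' n ⟶ sub I f n :=
  ModuleCat.ofHom (Submodule.factor (Submodule.smul_le.2 fun a ha v _ => by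
    rw [Submodule.mem_comap, map_smul]; exact Submodule.smul_mem_smul ha trivial))

/-- Its inclusion. -/
def subι (n : ℕ) : sub I f n ⟶ qn I M n := ModuleCat.ofHom (Submodule.mapQ _ _ f le_rfl)

/-- The transition maps. -/
def subT {n m : ℕ} (h : n ≤ m) : sub I f m ⟶ sub I f n :=
  ModuleCat.ofHom (Submodule.factor
    (Submodule.comap_mono (Submodule.smul_mono_left (Ideal.pow_le_pow_right (Nat.succ_le_succ h)))))

/-- The map to `M''_n`. -/
def qmap (n : ℕ) : qn I M n ⟶ qn I M'' n :=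
  ModuleCat.ofHom (Submodule.mapQ _ _ g (Submodule.smul_le.2 fun a ha v _ => by
    rw [Submodule.mem_comap, map_smul]; exact Submodule.smul_mem_smul ha trivial))

theorem toSub_subι (n : ℕ) : toSub I f n ≫ subι I f n = qmap I f n :=
  ModuleCat.hom_ext (Submodule.linearMap_qext _ (LinearMap.ext fun _ => rfl))

theorem qπ_qmap (n : ℕ) : qπ I M n ≫ qmap I g n = ModuleCat.ofHom g ≫ qπ I M'' n := rfl

theorem qt_qmap (n : ℕ) : qt I M n ≫ qmap I g n = qmap I g (n + 1) ≫ qt I M'' n :=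
  ModuleCat.hom_ext (Submodule.linearMap_qext _ (LinearMap.ext fun _ => rfl))

theorem subT_subι {n m : ℕ} (h : n ≤ m) : subT I f h ≫ subι I f n = subι I f m ≫ qT I M h :=
  ModuleCat.hom_ext (Submodule.linearMap_qext _ (LinearMap.ext fun _ => rfl))

theorem subι_injective (n : ℕ) : Function.Injective (subι I f n).hom := by
  rw [← LinearMap.ker_eq_bot]
  show LinearMap.ker (Submodule.mapQ _ _ f le_rfl) = ⊥
  rw [Submodule.ker_mapQ, Submodule.mkQ_map_self]

theorem subι_exact (hg : Function.Surjective g) (hfg : LinearMap.range f = LinearMap.ker g) (n : ℕ) :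
    Function.Exact (subι I f n).hom (qmap I g n).hom := by
  intro x
  constructor
  · obtain ⟨m, rfl⟩ := Submodule.Quotient.mk_surjective _ x
    intro h
    have h1 : g m ∈ (I ^ (n + 1) • ⊤ : Submodule A M'') := (Submodule.Quotient.mk_eq_zero _).1 h
    rw [← LinearMap.range_eq_top.2 hg, LinearMap.range_eq_map, ← Submodule.map_smul''] at h1
    obtain ⟨v, hv, hvm⟩ := h1
    obtain ⟨w, hw⟩ : m - v ∈ LinearMap.range f := hfg.symm ▸ (by rw [LinearMap.mem_ker, map_sub, hvm, sub_self])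
    refine ⟨Submodule.Quotient.mk w, ?_⟩
    refine (Submodule.Quotient.eq _).2 ?_
    rw [hw, sub_sub_cancel_left]
    exact neg_mem hv
  · rintro ⟨z, rfl⟩
    obtain ⟨w, rfl⟩ := Submodule.Quotient.mk_surjective _ z
    have h0 : g (f w) = 0 := LinearMap.mem_ker.1 (hfg ▸ ⟨w, rfl⟩)
    show Submodule.Quotient.mk (g (f w)) = 0
    rw [h0]
    rfl

theorem exists_artinRees (hf : Function.Injective f) :
    ∃ c, ∀ n, (I ^ (n + c + 1) • ⊤ : Submodule A M).comap f ≤ (I ^ (n + 1) • ⊤ : Submodule A M') := by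
  obtain ⟨k, hk⟩ := Ideal.exists_pow_inf_eq_pow_smul I (LinearMap.range f)
  refine ⟨k, fun n x hx => ?_⟩
  have h1 := (hk (n + k + 1) (by omega)).le ⟨hx, LinearMap.mem_range_self f x⟩
  have h2 : f x ∈ (I ^ (n + 1) • LinearMap.range f : Submodule A M) := by
    refine Submodule.smul_mono (le_of_eq (by congr 1; omega)) inf_le_right h1
  rw [LinearMap.range_eq_map, ← Submodule.map_smul''] at h2
  obtain ⟨y, hy, hyx⟩ := h2
  rwa [hf hyx] at hy

variable {I f g}

section Rho

variable {c : ℕ} (hc : ∀ n, (I ^ (n + c + 1) • ⊤ : Submodule A M).comap f ≤ (I ^ (n + 1) • ⊤ : Submodule A M'))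

/-- Back to the quotients of `M'`. -/
def rho (n : ℕ) : sub I f (n + c) ⟶ qn I M' n := ModuleCat.ofHom (Submodule.factor (hc n))

theorem toSub_rho (n : ℕ) : toSub I f (n + c) ≫ rho hc n = qT I M' (Nat.le_add_right n c) :=
  ModuleCat.hom_ext (Submodule.linearMap_qext _ (LinearMap.ext fun _ => rfl))

theorem rho_qmap (n : ℕ) : rho hc n ≫ qmap I f n = subι I f (n + c) ≫ qT I M (Nat.le_add_right n c) :=
  ModuleCat.hom_ext (Submodule.linearMap_qext _ (LinearMap.ext fun _ => rfl))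

theorem subT_rho (n : ℕ) :
    rho hc (n + 1) ≫ qt I M' n =
      subT I f (show n + c ≤ n + 1 + c by omega) ≫ rho hc n :=
  ModuleCat.hom_ext (Submodule.linearMap_qext _ (LinearMap.ext fun _ => rfl))

end Rho

/-- **Middle from left and right.** -/
theorem surj_mid (hf : Function.Injective f) (hg : Function.Surjective g)
    (hfg : LinearMap.range f = LinearMap.ker g) (h' : Surj I 𝔞 M') (h'' : Surj I 𝔞 M'') : Surj I 𝔞 M := by
  classical
  intro y
  let y'' : FSec 𝔞 I M'' := ⟨fun n => pmap 𝔞 (qmap I g n) (y.1 n), fun n => by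
    rw [← pmap_comp, ← qt_qmap, pmap_comp, mem_FSec y.2 n]⟩
  obtain ⟨J₀, hJ₀, z'', hz''⟩ := h'' y''
  obtain ⟨k, hk⟩ := coker_pto J₀ (ModuleCat.of A M'') (Submodule.Quotient.mk z'')
  obtain ⟨r, cc, hcc⟩ := Submodule.fg_iff_exists_fin_generating_family.mp (IsNoetherian.noetherian (J₀ ^ (k + 1)))
  have hcc' : Ideal.span (Set.range cc) = J₀ ^ (k + 1) := hcc
  have hcmem : ∀ j, cc j ∈ J₀ ^ (k + 1) := fun j => hcc'.le (Ideal.subset_span ⟨j, rfl⟩)
  have hmm : ∀ j, ∃ m : M, pto J₀ (ModuleCat.of A M'') (g m) = cc j • z'' := fun j => by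
    have h1 := hk _ (Ideal.pow_le_pow_right (Nat.le_succ k) (hcmem j))
    rw [← Submodule.Quotient.mk_smul, Submodule.Quotient.mk_eq_zero] at h1
    obtain ⟨m'', hm''⟩ := h1
    obtain ⟨m, rfl⟩ := hg m''
    exact ⟨m, hm''⟩
  choose m hm using hmm
  let t : Fin r → FSec 𝔞 I M := fun j => cc j • y - fη 𝔞 I M (m j)
  have ht : ∀ j n, pmap 𝔞 (qmap I g n) ((t j).1 n) = 0 := fun j n => by
    refine pres_qn_injective hJ₀ n _ ?_
    have e : pmap 𝔞 (qmap I g n) ((t j).1 n) = cc j • y''.1 n - pto 𝔞 (qn I M'' n) ((qπ I M'' n).hom (g (m j))) := by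
      show pmap 𝔞 (qmap I g n) (cc j • y.1 n - pto 𝔞 (qn I M n) ((qπ I M n).hom (m j))) = _
      rw [map_sub, map_smul, pmap_pto]
      rfl
    rw [e, map_sub, map_smul, pres_pto, ← hz'', ← pmap_pto, ← map_smul, hm, sub_self]
  choose u hu using fun j n => pmap_exact (𝔞 := 𝔞) (subι I f n) (qmap I g n) (subι_injective I f n)
    (subι_exact I f g hg hfg n) ((t j).1 n) (ht j n)
  have hut : ∀ j {n m : ℕ} (h : n ≤ m), pmap 𝔞 (subT I f h) (u j m) = u j n := fun j n m h => by
    refine pmap_injective (subι I f n) (subι_injective I f n) ?_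
    rw [← pmap_comp, subT_subι, pmap_comp, hu, hu, fsec_qT]
  obtain ⟨c, hc⟩ := exists_artinRees I f hf
  let v : Fin r → FSec 𝔞 I M' := fun j => ⟨fun n => pmap 𝔞 (rho hc n) (u j (n + c)), fun n => by
    rw [← pmap_comp, subT_rho hc, pmap_comp, hut]⟩
  have hv : ∀ j n, pmap 𝔞 (qmap I f n) ((v j).1 n) = (t j).1 n := fun j n => by
    show pmap 𝔞 (qmap I f n) (pmap 𝔞 (rho hc n) (u j (n + c))) = _
    rw [← pmap_comp, rho_qmap, pmap_comp, hu, fsec_qT]
  choose Jv hJv rv hrv using fun j => h' (v j)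
  -- one open for all
  obtain ⟨J, hJ, hJJ₀, hJJv⟩ : ∃ J, Adm I 𝔞 J ∧ J ≤ J₀ ^ (k + 1) ∧ ∀ j, J ≤ Jv j := by
    have key : ∀ s : Finset (Fin r), ∃ J, Adm I 𝔞 J ∧ J ≤ J₀ ^ (k + 1) ∧ ∀ j ∈ s, J ≤ Jv j := by
      intro s
      induction s using Finset.induction_on with
      | empty => exact ⟨_, hJ₀.pow k, le_rfl, by simp⟩
      | @insert j s hj ih =>
        obtain ⟨J, h1, h2, h3⟩ := ih
        refine ⟨J * Jv j, h1.mul (hJv j), Ideal.mul_le_left.trans h2, fun i hi => ?_⟩
        rcases Finset.mem_insert.1 hi with rfl | hi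
        · exact Ideal.mul_le_right
        · exact Ideal.mul_le_left.trans (h3 i hi)
    obtain ⟨J, h1, h2, h3⟩ := key Finset.univ
    exact ⟨J, h1, h2, fun j => h3 j (Finset.mem_univ j)⟩
  let w : Fin r → PSec J (ModuleCat.of A M) := fun j =>
    pto J (ModuleCat.of A M) (m j) + pmap J (ModuleCat.ofHom f) (pres (hJJv j) _ (rv j))
  have hw : ∀ j n, pmap J (qπ I M n) (w j) = cc j • pres hJ.le (qn I M n) (y.1 n) := fun j n => by
    have e1 : pmap J (qπ I M n) (pmap J (ModuleCat.ofHom f) (pres (hJJv j) _ (rv j))) =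
        pres hJ.le (qn I M n) ((t j).1 n) := by
      rw [← pmap_comp, ← qπ_qmap, pmap_comp, ← pres_pmap, hrv, pres_pres, ← pres_pmap, hv]
    rw [map_add, e1, pmap_pto, ← pres_pto hJ.le]
    show _ + pres hJ.le _ (cc j • y.1 n - pto 𝔞 _ _) = _
    rw [map_sub, map_smul, add_sub_cancel]
  -- compatibility near `V(I)`
  have key : ∀ s : Finset (Fin r × Fin r), ∃ (J' : Ideal A) (_ : Adm I 𝔞 J') (h : J' ≤ J),
      ∀ p ∈ s, pres h (ModuleCat.of A M) (cc p.1 • w p.2 - cc p.2 • w p.1) = 0 := by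
    intro s
    induction s using Finset.induction_on with
    | empty => exact ⟨J, hJ, le_rfl, by simp⟩
    | @insert p s hp ih =>
      obtain ⟨J', hJ', hle, h0⟩ := ih
      obtain ⟨J'', hJ'', hle', h1⟩ := exists_pres_eq_zero hJ'
        (pres hle (ModuleCat.of A M) (cc p.1 • w p.2 - cc p.2 • w p.1)) fun n => by
          rw [← pres_pmap, map_sub, map_smul, map_smul, hw, hw, smul_comm, sub_self, map_zero]
      refine ⟨J'', hJ'', hle'.trans hle, fun q hq => ?_⟩
      rw [← pres_pres hle hle']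
      rcases Finset.mem_insert.1 hq with rfl | hq
      · exact h1
      · rw [h0 q hq, map_zero]
  obtain ⟨J', hJ', hle, h0⟩ := key Finset.univ
  obtain ⟨z, hz⟩ := exists_glue cc (show J' ≤ Ideal.span (Set.range cc) by rw [hcc']; exact hle.trans hJJ₀)
    (ModuleCat.of A M) (fun j => pres hle _ (w j)) fun i j => by
      have := h0 (i, j) (Finset.mem_univ _)
      rwa [map_sub, map_smul, map_smul, sub_eq_zero] at this
  refine ⟨J', hJ', z, fun n => sub_eq_zero.1 (eq_zero_of_pow_smul J' _ fun a ha => ⟨1, ?_⟩)⟩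
  obtain ⟨b, hb⟩ := Ideal.mem_span_range_iff_exists_fun.1 (hcc'.ge (hJJ₀ (hle ha)))
  rw [pow_one, ← hb, Finset.sum_smul]
  refine Finset.sum_eq_zero fun j _ => ?_
  rw [mul_smul, smul_sub, ← map_smul, hz, ← pres_pmap, hw, map_smul, pres_pres, sub_self, smul_zero]

/-- **Left from middle and right.** -/
theorem surj_left (hf : Function.Injective f) (hg : Function.Surjective g)
    (hfg : LinearMap.range f = LinearMap.ker g) (h : Surj I 𝔞 M) : Surj I 𝔞 M' := by
  intro y
  let y₁ : FSec 𝔞 I M := ⟨fun n => pmap 𝔞 (qmap I f n) (y.1 n), fun n => by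
    rw [← pmap_comp, ← qt_qmap, pmap_comp, mem_FSec y.2 n]⟩
  obtain ⟨J, hJ, z, hz⟩ := h y₁
  have hgf : ∀ n, qmap I f n ≫ qmap I g n = 0 := fun n =>
    ModuleCat.hom_ext (Submodule.linearMap_qext _ (LinearMap.ext fun x => by
      show Submodule.Quotient.mk (g (f x)) = 0
      rw [show g (f x) = 0 from LinearMap.mem_ker.1 (hfg ▸ ⟨x, rfl⟩)]
      rfl))
  have hzero : ∀ n, pmap J (qπ I M'' n) (pmap J (ModuleCat.ofHom g) z) = 0 := fun n => by
    rw [← pmap_comp, ← qπ_qmap, pmap_comp, hz, ← pres_pmap]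
    show pres hJ.le _ (pmap 𝔞 (qmap I g n) (pmap 𝔞 (qmap I f n) (y.1 n))) = 0
    rw [← pmap_comp, hgf, pmap_zero, map_zero]
  obtain ⟨J', hJ', hle, h0⟩ := exists_pres_eq_zero hJ _ hzero
  rw [pres_pmap] at h0
  obtain ⟨x, hx⟩ := pmap_exact (𝔞 := J') (ModuleCat.ofHom f) (ModuleCat.ofHom g) hf
    (LinearMap.exact_iff.2 hfg.symm) _ h0
  refine ⟨J', hJ', x, fun n => ?_⟩
  obtain ⟨c, hc⟩ := exists_artinRees I f hf
  let d : ∀ n, PSec J' (qn I M' n) := fun n => pmap J' (qπ I M' n) x - pres hJ'.le (qn I M' n) (y.1 n)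
  have hd : ∀ n, pmap J' (qmap I f n) (d n) = 0 := fun n => by
    rw [map_sub, ← pmap_comp, qπ_qmap, pmap_comp, hx, ← pres_pmap, hz, pres_pres, ← pres_pmap, sub_eq_zero]
  have h1 : pmap J' (toSub I f (n + c)) (d (n + c)) = 0 := by
    refine pmap_injective (subι I f (n + c)) (subι_injective I f (n + c)) ?_
    rw [← pmap_comp, toSub_subι, hd, map_zero]
  have h2 : pmap J' (qT I M' (Nat.le_add_right n c)) (d (n + c)) = 0 := by
    rw [← toSub_rho hc, pmap_comp, h1, map_zero]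
  refine sub_eq_zero.1 (Eq.trans ?_ h2)
  show d n = _
  rw [map_sub, ← pres_pmap, fsec_qT, ← pmap_comp]
  rfl

end FormalSesLib

end
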